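import Groth.Prelude.Def_HRes
import Groth.Agent.Lib.CohTop16.PullH
import Groth.Agent.Lib.EtStalk.HpullComp

/-!
# The pullback maps on big site cohomology: identity and composition
-/

universe u

open CategoryTheory CategoryTheory.Limits AlgebraicGeometry Opposite CategoryTheory.Abelian

noncomputable section

namespace Groth.Agent.HResPull23

variable (K : Precoverage Scheme.{u}) {S T T' : Scheme.{u}}

instance (X : Scheme.{u}) : EnoughInjectives (BigSite.Ab K X) := IsGrothendieckAbelian.enoughInjectives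

theorem toSheafify_pullConst_inv (f : T ⟶ S) (M : AddCommGrpCat.{u + 1}) (U : (Over T)ᵒᵖ) :
    (toSheafify (QuotSh.J K T) ((Functor.const _).obj M)).app U ≫ (HRes.pullConst K f M).inv.hom.app U =
      (toSheafify (QuotSh.J K S) ((Functor.const (Over S)ᵒᵖ).obj M)).app (op ((Over.map f).obj U.unop)) := by
  have h := Functor.toSheafify_pullbackSheafificationCompatibility (Over.map f) AddCommGrpCat.{u + 1}
    (QuotSh.J K T) (QuotSh.J K S) ((Functor.const (Over S)ᵒᵖ).obj M)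
  exact congr_app h U

theorem constSheaf_hom_ext {X : Scheme.{u}} {M : AddCommGrpCat.{u + 1}} {G : BigSite.Ab K X}
    {a b : (constantSheaf (QuotSh.J K X) AddCommGrpCat.{u + 1}).obj M ⟶ G}
    (h : ∀ U, (toSheafify (QuotSh.J K X) ((Functor.const _).obj M)).app U ≫ a.hom.app U =
      (toSheafify (QuotSh.J K X) ((Functor.const _).obj M)).app U ≫ b.hom.app U) : a = b :=
  Sheaf.hom_ext (sheafify_hom_ext _ _ _ G.property (NatTrans.ext (funext h)))

theorem toSheafify_map {X : Scheme.{u}} (M : AddCommGrpCat.{u + 1}) {U V : (Over X)ᵒᵖ} (m : U ⟶ V) :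
    (toSheafify (QuotSh.J K X) ((Functor.const _).obj M)).app U ≫
      ((constantSheaf (QuotSh.J K X) AddCommGrpCat.{u + 1}).obj M).obj.map m =
      (toSheafify (QuotSh.J K X) ((Functor.const _).obj M)).app V :=
  ((toSheafify (QuotSh.J K X) ((Functor.const _).obj M)).naturality m).symm.trans (Category.id_comp _)

theorem pullConst_id_comp (M : AddCommGrpCat.{u + 1}) :
    (HRes.pullConst K (𝟙 S) M).inv ≫
      (K.toGrothendieck.overMapPullbackId AddCommGrpCat.{u + 1} S).hom.app _ = 𝟙 _ := by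
  refine constSheaf_hom_ext K fun U => ?_
  rw [show ((HRes.pullConst K (𝟙 S) M).inv ≫
      (K.toGrothendieck.overMapPullbackId AddCommGrpCat.{u + 1} S).hom.app _).hom.app U =
      (HRes.pullConst K (𝟙 S) M).inv.hom.app U ≫
      ((K.toGrothendieck.overMapPullbackId AddCommGrpCat.{u + 1} S).hom.app
        ((constantSheaf (QuotSh.J K S) AddCommGrpCat.{u + 1}).obj M)).hom.app U from rfl]
  exact ((Category.assoc _ _ _).symm.trans ((eq_whisker (toSheafify_pullConst_inv K (𝟙 S) M U) _).trans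
    (toSheafify_map K M ((Over.mapId S).inv.app U.unop).op))).trans (Category.comp_id _).symm

theorem pullConst_comp (f : T ⟶ S) (g : T' ⟶ T) (M : AddCommGrpCat.{u + 1}) :
    (HRes.pullConst K g M).inv ≫ (BigSite.pullBig K g AddCommGrpCat.{u + 1}).map (HRes.pullConst K f M).inv ≫
      (K.toGrothendieck.overMapPullbackComp AddCommGrpCat.{u + 1} g f).hom.app _ =
      (HRes.pullConst K (g ≫ f) M).inv := by
  refine constSheaf_hom_ext K fun U => ?_
  rw [toSheafify_pullConst_inv K (g ≫ f)]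
  change _ ≫ (HRes.pullConst K g M).inv.hom.app U ≫ (HRes.pullConst K f M).inv.hom.app (op ((Over.map g).obj U.unop)) ≫
    ((K.toGrothendieck.overMapPullbackComp AddCommGrpCat.{u + 1} g f).hom.app
      ((constantSheaf (QuotSh.J K S) AddCommGrpCat.{u + 1}).obj M)).hom.app U = _
  exact (Category.assoc _ _ _).symm.trans ((eq_whisker (toSheafify_pullConst_inv K g M U) _).trans
    ((Category.assoc _ _ _).symm.trans ((eq_whisker (toSheafify_pullConst_inv K f M _) _).trans
      (toSheafify_map K M ((Over.mapComp g f).hom.app U.unop).op))))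

theorem ext_id_key {C : Type*} [Category C] [Abelian C] [HasExt.{u + 1} C] {Z Z1 Y1 Y : C} {n : ℕ} (a : Z ⟶ Z1)
    (γ : Z1 ⟶ Z) (β : Y1 ⟶ Y) (y : Ext Z1 Y1 n) (x : Ext Z Y n)
    (h : y.comp (Ext.mk₀ β) (add_zero n) = (Ext.mk₀ γ).comp x (zero_add n)) (hc : a ≫ γ = 𝟙 Z) :
    ((Ext.mk₀ a).comp y (zero_add n)).comp (Ext.mk₀ β) (add_zero n) = x := by
  rw [Ext.comp_assoc_of_third_deg_zero, h,
    ← Ext.comp_assoc _ _ _ (zero_add 0) (zero_add n) (show 0 + 0 + n = n by lia), Ext.mk₀_comp_mk₀, hc, Ext.mk₀_id_comp]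

theorem ext_comp_key {C : Type*} [Category C] [Abelian C] [HasExt.{u + 1} C] {Z0 Z1 Z2 Z3 Y2 Y3 : C} {n : ℕ} (a : Z0 ⟶ Z1)
    (b : Z1 ⟶ Z2) (γ : Z2 ⟶ Z3) (β : Y2 ⟶ Y3) (c : Z0 ⟶ Z3) (y : Ext Z2 Y2 n) (y' : Ext Z3 Y3 n)
    (h : y.comp (Ext.mk₀ β) (add_zero n) = (Ext.mk₀ γ).comp y' (zero_add n)) (hc : a ≫ b ≫ γ = c) :
    (Ext.mk₀ c).comp y' (zero_add n) =
      ((Ext.mk₀ a).comp ((Ext.mk₀ b).comp y (zero_add n)) (zero_add n)).comp (Ext.mk₀ β) (add_zero n) := by
  rw [Ext.comp_assoc_of_third_deg_zero, Ext.comp_assoc_of_third_deg_zero, h,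
    ← Ext.comp_assoc _ _ _ (zero_add 0) (zero_add n) (show 0 + 0 + n = n by lia), Ext.mk₀_comp_mk₀,
    ← Ext.comp_assoc _ _ _ (zero_add 0) (zero_add n) (show 0 + 0 + n = n by lia), Ext.mk₀_comp_mk₀, ← hc, Category.assoc]

theorem map_overMapPullbackId_pull_id (F : BigSite.Ab K S) (n : ℕ) (x : BigSite.H K S F n) :
    Sheaf.H.map ((K.toGrothendieck.overMapPullbackId AddCommGrpCat.{u + 1} S).hom.app F) n
      (HRes.pull K (𝟙 S) F n x) = x := by
  have h := CohTop16.mapExt_nat (BigSite.pullBig K (𝟙 S) AddCommGrpCat.{u + 1}) (𝟭 _)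
    (K.toGrothendieck.overMapPullbackId AddCommGrpCat.{u + 1} S).hom n x
  rw [CohTop16.mapExt_id] at h
  rw [HRes.pull_apply, Sheaf.H.map_apply]
  exact ext_id_key _ _ _ _ _ h (pullConst_id_comp K _)

theorem pull_comp (f : T ⟶ S) (g : T' ⟶ T) (F : BigSite.Ab K S) (n : ℕ) (x : BigSite.H K S F n) :
    HRes.pull K (g ≫ f) F n x =
      Sheaf.H.map ((K.toGrothendieck.overMapPullbackComp AddCommGrpCat.{u + 1} g f).hom.app F) n
        (HRes.pull K g ((BigSite.pullBig K f AddCommGrpCat.{u + 1}).obj F) n (HRes.pull K f F n x)) := by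
  have h := EtStalk.mapExt_comp_nat (BigSite.pullBig K f AddCommGrpCat.{u + 1}) (BigSite.pullBig K g AddCommGrpCat.{u + 1})
    (BigSite.pullBig K (g ≫ f) AddCommGrpCat.{u + 1})
    (K.toGrothendieck.overMapPullbackComp AddCommGrpCat.{u + 1} g f).hom n x
  rw [HRes.pull_apply, HRes.pull_apply, HRes.pull_apply, Sheaf.H.map_apply, Ext.mapExactFunctor_comp,
    Ext.mapExactFunctor_mk₀]
  exact ext_comp_key _ _ _ _ _ _ _ h (pullConst_comp K f g _)

end Groth.Agent.HResPull23
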